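import Mathlib.CategoryTheory.Abelian.GrothendieckAxioms.Basic
import Mathlib.Algebra.Homology.Embedding.CochainComplex
import Mathlib.Algebra.Homology.HomotopyCategory.KInjective
import Groth.Agent.DerLib.Horseshoe
import Groth.Agent.DerLib.KInjUse
import Groth.Agent.LocCohLib.Cone
import Groth.Agent.QRlimLib.Rlim

/-!
# K-injective resolutions in abelian categories with exact countable products
-/

set_option autoImplicit false
set_option linter.unusedSectionVars false
set_option linter.style.haveILetI false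
set_option maxHeartbeats 800000

universe v u

open CategoryTheory CategoryTheory.Limits HomologicalComplex Pretriangulated

namespace ProdKInjLib

variable {A : Type u} [Category.{v} A] [Abelian A] [EnoughInjectives A]
  [HasLimitsOfShape (Discrete ℕ) A] [HasExactLimitsOfShape (Discrete ℕ) A]

theorem epi_piMap {f g : ℕ → A} (p : ∀ n, f n ⟶ g n) [hp : ∀ n, Epi (p n)] : Epi (Limits.Pi.map p) := by
  haveI : ∀ i, Epi ((Discrete.natTrans (F := Discrete.functor f) (G := Discrete.functor g) fun i => p i.as).app i) :=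
    fun i => hp i.as
  haveI : Epi (Discrete.natTrans (F := Discrete.functor f) (G := Discrete.functor g) fun i => p i.as) :=
    NatTrans.epi_of_epi_app _
  haveI : PreservesFiniteColimits (lim (J := Discrete ℕ) (C := A)) := HasExactLimitsOfShape.preservesFiniteColimits
  exact inferInstanceAs (Epi (lim.map (Discrete.natTrans (F := Discrete.functor f) (G := Discrete.functor g) fun i => p i.as)))

theorem exists_common {T : A} (X : ℕ → A) (p : ∀ n, X n ⟶ T) [∀ n, Epi (p n)] :
    ∃ (T' : A) (π : T' ⟶ T) (_ : Epi π) (l : ∀ n, T' ⟶ X n), ∀ n, l n ≫ p n = π := by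
  haveI := epi_piMap p
  refine ⟨pullback (Pi.lift fun _ : ℕ => 𝟙 T) (Limits.Pi.map p), pullback.fst _ _, inferInstance,
    fun n => pullback.snd _ _ ≫ Pi.π X n, fun n => ?_⟩
  have h := congrArg (· ≫ Pi.π (fun _ : ℕ => T) n) (pullback.condition (f := Pi.lift fun _ : ℕ => 𝟙 T) (g := Limits.Pi.map p))
  simp only [Category.assoc, Pi.lift_π, Category.comp_id, Pi.map_π] at h
  rw [Category.assoc, h]

theorem prod_hom_ext {W : A} {J : ℕ → CochainComplex A ℤ} (i : ℤ) {a b : W ⟶ (∏ᶜ J).X i}
    (h : ∀ n, a ≫ (Pi.π J n).f i = b ≫ (Pi.π J n).f i) : a = b :=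
  (isLimitOfPreserves (HomologicalComplex.eval A (ComplexShape.up ℤ) i) (limit.isLimit (Discrete.functor J))).hom_ext
    fun ⟨n⟩ => h n

theorem exists_prod_lift {W : A} {J : ℕ → CochainComplex A ℤ} (i : ℤ) (a : ∀ n, W ⟶ (J n).X i) :
    ∃ b : W ⟶ (∏ᶜ J).X i, ∀ n, b ≫ (Pi.π J n).f i = a n :=
  let hl := isLimitOfPreserves (HomologicalComplex.eval A (ComplexShape.up ℤ) i) (limit.isLimit (Discrete.functor J))
  ⟨hl.lift ⟨W, Discrete.natTrans fun ⟨n⟩ => a n⟩, fun n => hl.fac ⟨W, Discrete.natTrans fun ⟨n⟩ => a n⟩ ⟨n⟩⟩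

/-- Homology commutes with exact countable products. -/
theorem isIso_piHomology (J : ℕ → CochainComplex A ℤ) (m : ℤ) :
    IsIso (Pi.lift fun n => homologyMap (Pi.π J n) m) := by
  set c := Pi.lift fun n => homologyMap (Pi.π J n) m
  have hc : ∀ n, c ≫ Pi.π (fun n => (J n).homology m) n = homologyMap (Pi.π J n) m := fun n => Pi.lift_π _ _
  haveI : Mono c := by
    refine Preadditive.mono_of_cancel_zero _ fun {T} t ht => ?_
    obtain ⟨T₁, π₁, hπ₁, z, hz⟩ := surjective_up_to_refinements_of_epi ((∏ᶜ J).homologyπ m) t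
    have hn : ∀ n, ∃ (X : A) (p : X ⟶ T₁) (_ : Epi p) (w : X ⟶ (J n).X (m - 1)),
        p ≫ z ≫ cyclesMap (Pi.π J n) m = w ≫ (J n).toCycles (m - 1) m := fun n => by
      have h0 : (z ≫ cyclesMap (Pi.π J n) m) ≫ (J n).homologyπ m = 0 := by
        rw [Category.assoc, ← homologyπ_naturality, ← reassoc_of% hz, ← hc n, reassoc_of% ht, zero_comp, comp_zero]
      exact (ShortComplex.exact_iff_exact_up_to_refinements _).1
        (ShortComplex.exact_of_g_is_cokernel
          (ShortComplex.mk ((J n).toCycles (m - 1) m) ((J n).homologyπ m) ((J n).toCycles_comp_homologyπ _ _))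
          ((J n).homologyIsCokernel (m - 1) m (by simp))) _ h0
    choose X p hp w hw using hn
    haveI := hp
    obtain ⟨T₂, π₂, hπ₂, l, hl⟩ := exists_common X p
    obtain ⟨y, hy⟩ := exists_prod_lift (J := J) (m - 1) fun n => l n ≫ w n
    have hkey : π₂ ≫ z = y ≫ (∏ᶜ J).toCycles (m - 1) m := by
      rw [← cancel_mono ((∏ᶜ J).iCycles m), Category.assoc, Category.assoc, toCycles_i]
      refine prod_hom_ext m fun n => ?_
      rw [Category.assoc, Category.assoc, Category.assoc, ← cyclesMap_i, ← reassoc_of% (hl n), reassoc_of% (hw n),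
        toCycles_i, ← HomologicalComplex.Hom.comm, reassoc_of% (hy n)]
    rw [← cancel_epi π₁, ← cancel_epi π₂, hz, reassoc_of% hkey, toCycles_comp_homologyπ]
    simp
  haveI : Epi c := by
    refine (epi_iff_surjective_up_to_refinements _).2 fun {T} t => ?_
    have hn : ∀ n, ∃ (X : A) (p : X ⟶ T) (_ : Epi p) (w : X ⟶ (J n).cycles m),
        p ≫ t ≫ Pi.π (fun n => (J n).homology m) n = w ≫ (J n).homologyπ m := fun n => by
      obtain ⟨X, p, hp, w, hw⟩ := surjective_up_to_refinements_of_epi ((J n).homologyπ m)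
        (t ≫ Pi.π (fun n => (J n).homology m) n)
      exact ⟨X, p, hp, w, hw⟩
    choose X p hp w hw using hn
    haveI := hp
    obtain ⟨T₂, π₂, hπ₂, l, hl⟩ := exists_common X p
    obtain ⟨y, hy⟩ := exists_prod_lift (J := J) m fun n => l n ≫ w n ≫ (J n).iCycles m
    have hyd : y ≫ (∏ᶜ J).d m (m + 1) = 0 := prod_hom_ext (m + 1) fun n => by
      rw [Category.assoc, ← HomologicalComplex.Hom.comm, reassoc_of% (hy n), iCycles_d, zero_comp]
      simp
    refine ⟨T₂, π₂, hπ₂, (∏ᶜ J).liftCycles y (m + 1) (by simp) hyd ≫ (∏ᶜ J).homologyπ m,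
      Limits.Pi.hom_ext _ _ fun n => ?_⟩
    rw [Category.assoc, ← hl n, Category.assoc, hw n, Category.assoc, Category.assoc, hc n, homologyπ_naturality,
      ← Category.assoc (l n), ← Category.assoc ((∏ᶜ J).liftCycles y _ _ _)]
    congr 1
    rw [← cancel_mono ((J n).iCycles m), Category.assoc, Category.assoc, cyclesMap_i, liftCycles_i_assoc, hy n]
  exact isIso_of_mono_of_epi c

variable (K : CochainComplex A ℤ)

/-- A stage of the tower of resolutions. -/
structure St (n : ℕ) where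
  obj : CochainComplex A ℤ
  map : K ⟶ obj
  ge : obj.IsStrictlyGE (-(n : ℤ))
  inj : ∀ k, Injective (obj.X k)
  qis : ∀ i : ℤ, -(n : ℤ) ≤ i → QuasiIsoAt map i

theorem exists_zero : Nonempty (St K 0) := by
  obtain ⟨L, α, hL, hI, -, hα⟩ := Groth.Agent.DerLib.Horseshoe.exists_injective_resolution (K.truncGE (-((0 : ℕ) : ℤ))) (-((0 : ℕ) : ℤ))
  haveI := hα
  exact ⟨⟨L, K.πTruncGE _ ≫ α, hL, hI, fun i hi => by
    haveI := K.quasiIsoAt_πTruncGE _ i hi
    infer_instance⟩⟩

theorem exists_next {n : ℕ} (s : St K n) : ∃ (t : St K (n + 1)) (p : t.obj ⟶ s.obj), t.map ≫ p = s.map := by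
  haveI := s.ge
  have hle : -((n + 1 : ℕ) : ℤ) ≤ -(n : ℤ) := by omega
  haveI : s.obj.IsStrictlyGE (-((n + 1 : ℕ) : ℤ)) := s.obj.isStrictlyGE_of_ge _ _ hle
  obtain ⟨L, α, hL, hI, hmono, hα⟩ :=
    Groth.Agent.DerLib.Horseshoe.exists_injective_resolution (K.truncGE (-((n + 1 : ℕ) : ℤ))) (-((n + 1 : ℕ) : ℤ))
  haveI := hα
  obtain ⟨p, hp⟩ := Groth.Agent.DerLib.Horseshoe.exists_desc α hmono (-(n : ℤ)) s.inj
    (CochainComplex.truncGEMap s.map _ ≫ inv (s.obj.πTruncGE (-((n + 1 : ℕ) : ℤ))))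
  refine ⟨⟨L, K.πTruncGE _ ≫ α, hL, hI, fun i hi => ?_⟩, p, ?_⟩
  · haveI := K.quasiIsoAt_πTruncGE _ i hi
    infer_instance
  · rw [Category.assoc, hp, ← Category.assoc, IsIso.comp_inv_eq, CochainComplex.πTruncGE_naturality]

/-- Every complex has a K-injective resolution. -/
theorem exists_kInjective : ∃ (I : CochainComplex A ℤ) (f : K ⟶ I), I.IsKInjective ∧ QuasiIso f := by
  obtain ⟨s0⟩ := exists_zero K
  choose nx pr hpr using fun (n : ℕ) (s : St K n) => exists_next K s
  let s : ∀ n, St K n := fun n => Nat.rec (motive := fun n => St K n) s0 nx n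
  let p : ∀ n, (s (n + 1)).obj ⟶ (s n).obj := fun n => pr n (s n)
  let J : ℕ → CochainComplex A ℤ := fun n => (s n).obj
  let f : ∀ n, K ⟶ J n := fun n => (s n).map
  have hfp : ∀ n, f (n + 1) ≫ p n = f n := fun n => hpr n (s n)
  haveI : ∀ n, (J n).IsKInjective := fun n =>
    haveI := (s n).ge
    haveI := (s n).inj
    CochainComplex.isKInjective_of_injective (J n) (-(n : ℤ))
  haveI : (∏ᶜ J).IsKInjective := Groth.Agent.DerLib.KInjUse.isKInjective_pi J fun n => inferInstance
  let a : K ⟶ ∏ᶜ J := Pi.lift f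
  let φ : (∏ᶜ J) ⟶ ∏ᶜ J := Pi.lift fun n => Pi.π J n - Pi.π J (n + 1) ≫ p n
  have haφ : a ≫ φ = 0 := Limits.Pi.hom_ext _ _ fun n => by
    rw [Category.assoc, Pi.lift_π, Preadditive.comp_sub, Pi.lift_π, Pi.lift_π_assoc, hfp, sub_self, zero_comp]
  let g : K ⟶ CochainComplex.mappingCocone φ :=
    CochainComplex.mappingCocone.lift φ a 0 (by simp [haφ])
  have hg : g ≫ CochainComplex.mappingCocone.fst φ = a := CochainComplex.mappingCocone.lift_fst _ _ _ _
  have hK : (CochainComplex.mappingCocone φ).IsKInjective := by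
    rw [CochainComplex.isKInjective_iff_rightOrthogonal]
    exact (HomotopyCategory.subcategoryAcyclic A).rightOrthogonal.ext_of_isTriangulatedClosed₁ _
      (LocCohLib.cocone_dist φ) (CochainComplex.IsKInjective.rightOrthogonal (∏ᶜ J))
      (CochainComplex.IsKInjective.rightOrthogonal (∏ᶜ J))
  refine ⟨_, g, hK, ⟨fun m => ?_⟩⟩
  rw [quasiIsoAt_iff_isIso_homologyMap]
  -- homology of the tower
  have key : ∀ m : ℤ, Epi (homologyMap φ m) ∧
      ∀ (N : ℕ), -(N : ℤ) ≤ m → Mono (homologyMap a m) ∧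
        ∀ (T : A) (y : T ⟶ (∏ᶜ J).homology m), y ≫ homologyMap φ m = 0 → ∃ x, x ≫ homologyMap a m = y := by
    intro m
    haveI hc := isIso_piHomology J m
    let H : ℕ → A := fun n => (J n).homology m
    let τ : ∀ n, H (n + 1) ⟶ H n := fun n => homologyMap (p n) m
    have hiso : ∀ n : ℕ, -(n : ℤ) ≤ m → IsIso (homologyMap (f n) m) := fun n hn => by
      haveI := (s n).qis m hn
      exact (quasiIsoAt_iff_isIso_homologyMap (f n) m).1 inferInstance
    have hτ : ∀ n : ℕ, -(n : ℤ) ≤ m → IsIso (τ n) := fun n hn => by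
      haveI := hiso n hn
      haveI := hiso (n + 1) (by omega)
      exact IsIso.of_isIso_fac_left (f := homologyMap (f (n + 1)) m) (h := homologyMap (f n) m)
        (by rw [← homologyMap_comp, hfp])
    have hφc : ∀ n, homologyMap φ m ≫ homologyMap (Pi.π J n) m =
        homologyMap (Pi.π J n) m - homologyMap (Pi.π J (n + 1)) m ≫ τ n := fun n => by
      rw [← homologyMap_comp, Pi.lift_π, homologyMap_sub, homologyMap_comp]
    have ext : ∀ {T : A} (y y' : T ⟶ (∏ᶜ J).homology m),
        (∀ n, y ≫ homologyMap (Pi.π J n) m = y' ≫ homologyMap (Pi.π J n) m) → y = y' := fun y y' h => by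
      rw [← cancel_mono (Pi.lift fun n => homologyMap (Pi.π J n) m)]
      exact Limits.Pi.hom_ext _ _ fun n => by simpa using h n
    have exi : ∀ {T : A} (x : ∀ n, T ⟶ H n), ∃ y : T ⟶ (∏ᶜ J).homology m, ∀ n, y ≫ homologyMap (Pi.π J n) m = x n :=
      fun x => ⟨Pi.lift x ≫ inv (Pi.lift fun n => homologyMap (Pi.π J n) m), fun n => by
        have h1 : homologyMap (Pi.π J n) m = (Pi.lift fun n => homologyMap (Pi.π J n) m) ≫ Pi.π H n :=
          (Pi.lift_π (fun n => homologyMap (Pi.π J n) m) n).symm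
        rw [h1, Category.assoc, IsIso.inv_hom_id_assoc, Pi.lift_π]⟩
    refine ⟨?_, fun N hN => ⟨?_, fun T y hy => ?_⟩⟩
    · obtain ⟨N, hN⟩ : ∃ N : ℕ, -(N : ℤ) ≤ m := ⟨(-m).toNat, by omega⟩
      obtain ⟨r, hr⟩ := QRlimLib.exists_sub_eq N (fun n => ((∏ᶜ J).homology m ⟶ H n))
        (fun n => Preadditive.rightComp _ (τ n))
        (fun n hn z => haveI := hτ n (by omega); ⟨z ≫ inv (τ n), by simp [Preadditive.rightComp]⟩)
        fun n => homologyMap (Pi.π J n) m
      obtain ⟨σ, hσ⟩ := exi r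
      have : σ ≫ homologyMap φ m = 𝟙 _ := ext _ _ fun n => by
        rw [Category.assoc, hφc, Preadditive.comp_sub, hσ, reassoc_of% (hσ (n + 1)), Category.id_comp]
        exact hr n
      exact epi_of_epi_fac this
    · haveI := hiso N hN
      exact mono_of_mono_fac (show homologyMap a m ≫ homologyMap (Pi.π J N) m = homologyMap (f N) m by
        rw [← homologyMap_comp, Pi.lift_π])
    · haveI := hiso N hN
      refine ⟨(y ≫ homologyMap (Pi.π J N) m) ≫ inv (homologyMap (f N) m), ?_⟩
      set x := (y ≫ homologyMap (Pi.π J N) m) ≫ inv (homologyMap (f N) m)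
      have hcomp : ∀ n, homologyMap a m ≫ homologyMap (Pi.π J n) m = homologyMap (f n) m := fun n => by
        rw [← homologyMap_comp, Pi.lift_π]
      refine ext _ _ fun n => sub_eq_zero.1 ?_
      refine QRlimLib.eq_zero_of_compatible N (fun n => (T ⟶ H n)) (fun n => Preadditive.rightComp _ (τ n))
        (fun n hn z z' h => haveI := hτ n (by omega); (cancel_mono (τ n)).1 h)
        (fun n => (x ≫ homologyMap a m) ≫ homologyMap (Pi.π J n) m - y ≫ homologyMap (Pi.π J n) m) (fun n => ?_) ?_ n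
      · have h1 := congrArg (fun k => k ≫ homologyMap (Pi.π J n) m) hy
        simp only [Category.assoc, hφc, Preadditive.comp_sub, zero_comp, sub_eq_zero] at h1
        show _ - _ ≫ τ n = 0
        simp only [Category.assoc, hcomp, Preadditive.sub_comp]
        rw [show homologyMap (f (n + 1)) m ≫ τ n = homologyMap (f n) m by rw [← homologyMap_comp, hfp], h1]
        abel
      · simp [x, hcomp]
  obtain ⟨N, hN⟩ : ∃ N : ℕ, -(N : ℤ) ≤ m := ⟨(-m).toNat, by omega⟩
  obtain ⟨hamono, hlift⟩ := (key m).2 N hN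
  haveI := hamono
  haveI hmono : Mono (homologyMap (CochainComplex.mappingCocone.fst φ) m) := by
    let Tr := CochainComplex.mappingCocone.triangle φ
    have h₁ : homologyMap Tr.rotate.mor₂ (m - 1) = 0 := by
      haveI : Epi (homologyMap Tr.rotate.mor₁ (m - 1)) := (key (m - 1)).1
      rw [← cancel_epi (homologyMap Tr.rotate.mor₁ (m - 1)), comp_zero]
      exact LocCohLib.comp_zero_of_dist _ (LocCohLib.rotate_dist _ (LocCohLib.cocone_dist φ)) (m - 1)
    have h₂ : Mono (homologyMap Tr.rotate.rotate.mor₂ (m - 1)) :=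
      (LocCohLib.exact_of_dist _ (LocCohLib.rotate_dist _ (LocCohLib.rotate_dist _ (LocCohLib.cocone_dist φ))) (m - 1)).mono_g h₁
    have e := LocCohLib.shiftHomologyIso_naturality (CochainComplex.mappingCocone.fst φ) 1 (m - 1) m (by omega)
    have h₃ : Mono (homologyMap ((CochainComplex.mappingCocone.fst φ)⟦(1 : ℤ)⟧') (m - 1)) := by
      have h₂' : Mono (homologyMap (-((CochainComplex.mappingCocone.fst φ)⟦(1 : ℤ)⟧')) (m - 1)) := h₂
      rw [homologyMap_neg] at h₂'
      haveI := h₂'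
      refine Preadditive.mono_of_cancel_zero _ fun {T} t ht => ?_
      rw [← cancel_mono (-(homologyMap ((CochainComplex.mappingCocone.fst φ)⟦(1 : ℤ)⟧') (m - 1))), Preadditive.comp_neg, ht,
        zero_comp, neg_zero]
    rw [show homologyMap (CochainComplex.mappingCocone.fst φ) m =
      (LocCohLib.shiftHomologyIso _ 1 (m - 1) m (by omega)).inv ≫
        homologyMap ((CochainComplex.mappingCocone.fst φ)⟦(1 : ℤ)⟧') (m - 1) ≫
          (LocCohLib.shiftHomologyIso _ 1 (m - 1) m (by omega)).hom by rw [e, Iso.inv_hom_id_assoc]]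
    infer_instance
  have hga : homologyMap g m ≫ homologyMap (CochainComplex.mappingCocone.fst φ) m = homologyMap a m := by
    rw [← homologyMap_comp, hg]
  haveI : Mono (homologyMap g m) := mono_of_mono_fac hga
  haveI : Epi (homologyMap g m) := by
    obtain ⟨x, hx⟩ := hlift _ (homologyMap (CochainComplex.mappingCocone.fst φ) m) (LocCohLib.homologyMap_fst_comp φ m)
    refine epi_of_epi_fac (f := x) (h := 𝟙 _) ?_
    rw [← cancel_mono (homologyMap (CochainComplex.mappingCocone.fst φ) m), Category.assoc, hga, hx, Category.id_comp]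
  exact isIso_of_mono_of_epi _

end ProdKInjLib
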